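import Cfsg.Agent.H57.BG.Kill
import Cfsg.Agent.H548.DerAlt

/-!
# Abelian regular subgroups: the alternating groups of degree at least 8 (S3561, helper349)
-/

set_option autoImplicit false
set_option linter.unusedSectionVars false

namespace Cfsg.Agent.H349.BG.Alt

open Equiv Equiv.Perm MulAction Cfsg.Agent.H57.BG Cfsg.Agent.H548.DerAlt
open scoped Pointwise

variable {m : ℕ}

theorem sq_not_dvd {r : ℕ} (hr : r.Prime) (h : m < 2 * r) : ¬ r ^ 2 ∣ Nat.card (alternatingGroup (Fin m)) := by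
  intro h0
  have h1 : r ^ 2 ∣ m.factorial := by
    refine h0.trans ?_
    have h2 := Subgroup.card_subgroup_dvd_card (alternatingGroup (Fin m))
    rwa [Nat.card_perm, Nat.card_fin] at h2
  have hr2 := hr.two_le
  have hlog : Nat.log r m < 2 := by
    apply Nat.log_lt_of_lt_pow' (by norm_num)
    nlinarith
  rw [Nat.Prime.pow_dvd_factorial_iff hr hlog] at h1
  have h2 : ∑ i ∈ Finset.Ico 1 2, m / r ^ i = m / r := by
    rw [Finset.sum_Ico_succ_top (by norm_num), Finset.Ico_self, Finset.sum_empty, zero_add, pow_one]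
  rw [h2] at h1
  have h3 : m / r < 2 := Nat.div_lt_of_lt_mul (by omega)
  omega

theorem dvd_card {r : ℕ} (hr : r.Prime) (h2 : r ≠ 2) (h : r ≤ m) (hm : 2 ≤ m) :
    r ∣ Nat.card (alternatingGroup (Fin m)) := by
  have : Nontrivial (Fin m) := Fin.nontrivial_iff_two_le.2 hm
  have h1 := two_mul_nat_card_alternatingGroup (α := Fin m)
  rw [Nat.card_perm, Nat.card_fin] at h1
  have h3 : r ∣ 2 * Nat.card (alternatingGroup (Fin m)) := by
    rw [h1]; exact (hr.dvd_factorial).2 h
  refine (hr.dvd_mul.1 h3).resolve_left fun h4 => h2 ((Nat.prime_dvd_prime_iff_eq hr Nat.prime_two).1 h4)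

theorem two_trans (hm : 4 ≤ m) {a b c d : Fin m} (hab : a ≠ b) (hcd : c ≠ d) :
    ∃ g : alternatingGroup (Fin m), g • a = c ∧ g • b = d := by
  have h1 := alternatingGroup.isMultiplyPretransitive (Fin m)
  rw [Nat.card_fin] at h1
  have h2 : IsMultiplyPretransitive (alternatingGroup (Fin m)) (Fin m) 2 := by
    apply isMultiplyPretransitive_of_le (n := m - 2) (by omega)
    rw [Nat.card_fin]; omega
  exact is_two_pretransitive_iff.1 h2 hab hcd

/-- a point moved, replaced by another one -/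
theorem exchange {Δ : Set (Fin m)} {w x y : Fin m} (hw : w ∈ Δ) (hx : x ∈ Δ) (hwx : w ≠ x) (hy : y ∉ Δ) :
    ∃ t : alternatingGroup (Fin m), t • Δ = insert y (Δ \ {w}) := by
  have hxy : x ≠ y := fun h => hy (h ▸ hx)
  have hwy : w ≠ y := fun h => hy (h ▸ hw)
  -- the three-cycle `x → y → w → x`
  set t : Perm (Fin m) := swap x w * swap x y with ht
  have htx : t x = y := by
    rw [ht, Perm.mul_apply, swap_apply_left, swap_apply_of_ne_of_ne hxy.symm hwy.symm]
  have hty : t y = w := by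
    rw [ht, Perm.mul_apply, swap_apply_right, swap_apply_left]
  have htw : t w = x := by
    rw [ht, Perm.mul_apply, swap_apply_of_ne_of_ne hwx hwy, swap_apply_right]
  have hto : ∀ z, z ≠ x → z ≠ y → z ≠ w → t z = z := fun z h1 h2 h3 => by
    rw [ht, Perm.mul_apply, swap_apply_of_ne_of_ne h1 h2, swap_apply_of_ne_of_ne h1 h3]
  have htA : t ∈ alternatingGroup (Fin m) := by
    rw [mem_alternatingGroup, ht, map_mul, sign_swap hwx.symm, sign_swap hxy]
    decide
  refine ⟨⟨t, htA⟩, ?_⟩
  ext z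
  constructor
  · rintro ⟨u, hu, rfl⟩
    show t u ∈ _
    by_cases h1 : u = x
    · subst h1; rw [htx]; exact Set.mem_insert _ _
    by_cases h2 : u = w
    · subst h2; rw [htw]; exact Set.mem_insert_of_mem _ ⟨hx, fun h => hwx h.symm⟩
    have h3 : u ≠ y := fun h => hy (h ▸ hu)
    rw [hto u h1 h3 h2]
    exact Set.mem_insert_of_mem _ ⟨hu, h2⟩
  · rintro (rfl | ⟨hz, hzw⟩)
    · exact ⟨x, hx, htx⟩
    · by_cases h1 : z = x
      · subst h1; exact ⟨w, hw, htw⟩
      · have h3 : z ≠ y := fun h => hy (h ▸ hz)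
        exact ⟨z, hz, hto z h1 h3 hzw⟩

/-- large orbits of a group coincide -/
theorem orbit_eq {H : Type*} [Group H] [MulAction H (Fin m)] {a b : Fin m} (ha : m < 2 * (orbit H a).ncard)
    (hb : m < 2 * (orbit H b).ncard) : orbit H a = orbit H b := by
  rcases MulAction.orbit.eq_or_disjoint (G := H) a b with h | h
  · exact h
  · exfalso
    have h1 : (orbit H a ∪ orbit H b).ncard = (orbit H a).ncard + (orbit H b).ncard :=
      Set.ncard_union_eq h (Set.toFinite _) (Set.toFinite _)
    have h2 := Set.ncard_le_card (orbit H a ∪ orbit H b)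
    rw [Nat.card_fin] at h2
    omega

/-- conjugation by a permutation -/
abbrev c (σ : Perm (Fin m)) : MulAut (alternatingGroup (Fin m)) := MulAut.conjNormal σ

theorem c_apply (σ : Perm (Fin m)) (g : alternatingGroup (Fin m)) :
    ((c σ g : alternatingGroup (Fin m)) : Perm (Fin m)) = σ * g * σ⁻¹ := MulAut.conjNormal_apply _ _

theorem c_coe (s : alternatingGroup (Fin m)) : c (s : Perm (Fin m)) = MulAut.conj s := by
  ext x : 2
  rw [c_apply]
  rfl

theorem orbit_map (σ : Perm (Fin m)) (L : Subgroup (alternatingGroup (Fin m))) (x : Fin m) :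
    orbit ↥(L.map (c σ).toMonoidHom) (σ x) = σ • orbit ↥L x := by
  ext y
  constructor
  · rintro ⟨⟨_, g, hg, rfl⟩, rfl⟩
    refine ⟨(g : Perm (Fin m)) x, ⟨⟨g, hg⟩, rfl⟩, ?_⟩
    show σ ((g : Perm (Fin m)) x) = ((c σ g : alternatingGroup (Fin m)) : Perm (Fin m)) (σ x)
    rw [c_apply]
    simp
  · rintro ⟨_, ⟨⟨g, hg⟩, rfl⟩, rfl⟩
    refine ⟨⟨c σ g, ⟨g, hg, rfl⟩⟩, ?_⟩
    show ((c σ g : alternatingGroup (Fin m)) : Perm (Fin m)) (σ x) = σ ((g : Perm (Fin m)) x)
    rw [c_apply]
    simp

theorem stab_map (σ : Perm (Fin m)) (Δ : Set (Fin m)) :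
    (stabilizer (alternatingGroup (Fin m)) Δ).map (c σ).toMonoidHom = stabilizer (alternatingGroup (Fin m)) (σ • Δ) := by
  ext g
  constructor
  · rintro ⟨k, hk, rfl⟩
    rw [SetLike.mem_coe, mem_stabilizer_iff] at hk
    rw [mem_stabilizer_iff]
    show ((c σ k : alternatingGroup (Fin m)) : Perm (Fin m)) • σ • Δ = σ • Δ
    rw [c_apply, ← mul_smul, inv_mul_cancel_right, mul_smul]
    congr 1
  · intro hg
    rw [mem_stabilizer_iff] at hg
    have hg' : (g : Perm (Fin m)) • σ • Δ = σ • Δ := hg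
    refine ⟨c σ⁻¹ g, ?_, ?_⟩
    · rw [SetLike.mem_coe, mem_stabilizer_iff]
      show ((c σ⁻¹ g : alternatingGroup (Fin m)) : Perm (Fin m)) • Δ = Δ
      rw [c_apply, inv_inv, mul_smul, mul_smul, hg', inv_smul_smul]
    · show c σ (c σ⁻¹ g) = g
      apply Subtype.ext
      rw [c_apply, c_apply]
      group

theorem ncard_perm_smul (σ : Perm (Fin m)) (Δ : Set (Fin m)) : (σ • Δ).ncard = Δ.ncard :=
  Set.ncard_smul_set σ Δ

variable {A : Subgroup (MulAut (alternatingGroup (Fin m)))} {L : Subgroup (alternatingGroup (Fin m))}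

/-- `L` has a large orbit -/
theorem exists_orbit (hm : 8 ≤ m) (h : Reg A L) :
    ∃ x : Fin m, m < 2 * (orbit L x).ncard ∧ orbit L x ≠ Set.univ := by
  obtain ⟨r, hr, hr2, hr3⟩ := exists_prime_three hm
  have hr2' : r ≠ 2 := by omega
  have h1 : r ∣ Nat.card L := h.dvd_card_of_sq hr (dvd_card hr hr2' (by omega) (by omega)) (sq_not_dvd hr hr2)
  have := Fact.mk hr
  obtain ⟨g, hg⟩ := exists_prime_orderOf_dvd_card' r h1
  set σ : Perm (Fin m) := ((g : alternatingGroup (Fin m)) : Perm (Fin m)) with hσd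
  have hσ : orderOf σ = r := by rw [hσd, Subgroup.orderOf_coe, Subgroup.orderOf_coe, hg]
  have hcyc : σ.IsCycle := isCycle_of_prime_order' (by rw [hσ]; exact hr) (by rw [hσ, Fintype.card_fin]; exact hr2)
  have hsup : σ.support.card = r := by rw [← hcyc.orderOf, hσ]
  have hgm : σ ∈ L.map (alternatingGroup (Fin m)).subtype := ⟨g, g.2, rfl⟩
  obtain ⟨x, hx⟩ : ∃ x, σ x ≠ x := by
    obtain ⟨x, hx, -⟩ := hcyc
    exact ⟨x, hx⟩
  refine ⟨x, ?_, ?_⟩
  · have hsub : (σ.support : Set (Fin m)) ⊆ orbit L x := by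
      intro y hy
      obtain ⟨k, hk⟩ := hcyc.exists_pow_eq hx (mem_support.1 hy)
      refine ⟨g ^ k, ?_⟩
      rw [← hk]
      rfl
    have h2 := Set.ncard_le_ncard hsub (Set.toFinite _)
    rw [Set.ncard_coe_finset, hsup] at h2
    omega
  · intro hu
    apply h.proper
    have htr : IsPretransitive ↥(L.map (alternatingGroup (Fin m)).subtype) (Fin m) := by
      have h3 : ∀ y : Fin m, ∃ g' : ↥(L.map (alternatingGroup (Fin m)).subtype), g' • x = y := by
        intro y
        have hy : y ∈ orbit L x := by rw [hu]; exact Set.mem_univ y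
        obtain ⟨k, hk⟩ := hy
        exact ⟨⟨((k : alternatingGroup (Fin m)) : Perm (Fin m)), ⟨k, k.2, rfl⟩⟩, hk⟩
      refine ⟨fun y z => ?_⟩
      obtain ⟨a, ha⟩ := h3 y
      obtain ⟨b, hb⟩ := h3 z
      exact ⟨b * a⁻¹, by rw [mul_smul, ← ha, inv_smul_smul, hb]⟩
    have hprim := prim_of_mem htr (by omega) hr hr2 hgm (by rw [← hσ, pow_orderOf_eq_one]) hcyc.ne_one
    exact eq_top_of_le (Cfsg.Agent.S0713.result _ hprim hr (by rw [Fintype.card_fin]; omega)
      (by rw [Fintype.card_fin]; omega) hcyc hsup hgm)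

/-- `L` is the stabilizer of its large orbit -/
theorem eq_stab (hm : 8 ≤ m) (h : Reg A L) {x : Fin m} (hx : m < 2 * (orbit L x).ncard)
    (hu : orbit L x ≠ Set.univ) : L = stabilizer (alternatingGroup (Fin m)) (orbit L x) := by
  obtain ⟨B, -, -, hB⟩ := h.prim
  have hsurj := (Cfsg.Agent.S2119.result m (by omega) (by omega)).2
  rcases hB (stabilizer (alternatingGroup (Fin m)) (orbit L x)) (fun g hg => by
    rw [mem_stabilizer_iff]
    exact MulAction.smul_orbit (⟨g, hg⟩ : L) x) (by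
    intro b _ hbL
    obtain ⟨σ, rfl⟩ := hsurj b
    have h1 := orbit_map σ L x
    have h2 : L.map (c σ).toMonoidHom = L := hbL
    rw [h2] at h1
    have h3 : σ • orbit L x = orbit L x := by
      rw [← h1]
      apply orbit_eq _ hx
      rw [h1, ncard_perm_smul]
      exact hx
    have h4 := stab_map σ (orbit L x)
    rw [h3] at h4
    exact h4) with h1 | h1
  · exact h1.symm
  · exfalso
    refine (alternatingGroup.isCoatom_stabilizer (s := orbit L x) ⟨x, mem_orbit_self x⟩ ?_ ?_).1 h1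
    · rwa [Set.nonempty_compl]
    · rw [Nat.card_fin]; omega

/-- **the alternating groups of degree at least 8** -/
theorem not_reg (hm : 8 ≤ m) (h : Reg A L) : False := by
  obtain ⟨x, hx, hu⟩ := exists_orbit hm h
  have hL := eq_stab hm h hx hu
  set Δ : Set (Fin m) := orbit L x with hΔ
  obtain ⟨hinj, hsurj⟩ := Cfsg.Agent.S2119.result m (by omega) (by omega)
  set A' : Subgroup (Perm (Fin m)) := A.comap (MulAut.conjNormal : Perm (Fin m) →* MulAut (alternatingGroup (Fin m)))
    with hA'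
  have hcomm : ∀ a ∈ A', ∀ b ∈ A', a * b = b * a := by
    intro a ha b hb
    apply hinj
    rw [map_mul, map_mul]
    exact h.comm _ ha _ hb
  have htrans : ∀ s : alternatingGroup (Fin m), ∃ a ∈ A', a • Δ = s • Δ := by
    intro s
    obtain ⟨α, hα, hαs⟩ := h.trans s
    obtain ⟨a, rfl⟩ := hsurj α
    refine ⟨a, hα, ?_⟩
    have h1 := orbit_map a L x
    have h2 := orbit_map (s : Perm (Fin m)) L x
    have h3 : L.map (c a).toMonoidHom = L.map (c (s : Perm (Fin m))).toMonoidHom := by
      rw [c_coe]; exact hαs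
    rw [← h3] at h2
    show a • Δ = (s : Perm (Fin m)) • Δ
    rw [← h1, ← h2]
    apply orbit_eq
    · rw [h1, ncard_perm_smul]; exact hx
    · rw [h2, ncard_perm_smul]; exact hx
  -- two points of `Δ` and one outside
  obtain ⟨v, hv⟩ : ∃ v, v ∉ Δ := by
    by_contra hcon
    push Not at hcon
    exact hu (Set.eq_univ_of_forall hcon)
  have hxΔ : x ∈ Δ := mem_orbit_self x
  -- `A'` is transitive on the points
  have hpt : ∀ w y : Fin m, ∃ a ∈ A', a w = y := by
    intro w y
    by_contra hcon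
    push Not at hcon
    set O : Set (Fin m) := orbit A' w with hO
    have hyO : y ∉ O := by
      rintro ⟨a, ha⟩
      exact hcon a a.2 ha
    have hwO : w ∈ O := mem_orbit_self w
    have hwy : w ≠ y := fun e => hyO (e ▸ hwO)
    have hconst : ∀ s : alternatingGroup (Fin m), (s • Δ ∩ O).ncard = (Δ ∩ O).ncard := by
      intro s
      obtain ⟨a, ha, has⟩ := htrans s
      rw [← has]
      have h1 : a • O = O := MulAction.smul_orbit (⟨a, ha⟩ : A') w
      conv_lhs => rw [← h1]
      rw [← Set.smul_set_inter, ncard_perm_smul]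
    obtain ⟨s, hs1, hs2⟩ := two_trans (m := m) (by omega) (a := x) (b := v) (c := w) (d := y)
      (fun e => hv (e ▸ hxΔ)) hwy
    have hw1 : w ∈ s • Δ := by rw [← hs1]; exact Set.smul_mem_smul_set hxΔ
    have hy1 : y ∉ s • Δ := by
      rw [← hs2, Set.smul_mem_smul_set_iff]; exact hv
    obtain ⟨z, hz, hzw⟩ : ∃ z ∈ s • Δ, z ≠ w := by
      have h1 : 1 < (s • Δ).ncard := by
        have : (s • Δ).ncard = Δ.ncard := Set.ncard_smul_set s Δ
        rw [this]; omega
      exact Set.exists_ne_of_one_lt_ncard h1 w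
    obtain ⟨t, ht⟩ := exchange hw1 hz hzw.symm hy1
    have h1 := hconst s
    have h2 := hconst (t * s)
    rw [mul_smul, ht, ← h1] at h2
    have h3 : insert y ((s • Δ) \ {w}) ∩ O = ((s • Δ) ∩ O) \ {w} := by
      ext u
      constructor
      · rintro ⟨rfl | hu1, hu2⟩
        · exact absurd hu2 hyO
        · exact ⟨⟨hu1.1, hu2⟩, hu1.2⟩
      · rintro ⟨⟨hu1, hu2⟩, hu3⟩
        exact ⟨Set.mem_insert_of_mem _ ⟨hu1, hu3⟩, hu2⟩
    rw [h3, Set.ncard_sdiff_singleton_of_mem (show w ∈ (s • Δ) ∩ O from ⟨hw1, hwO⟩)] at h2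
    have h4 : 0 < ((s • Δ) ∩ O).ncard := Set.ncard_pos (Set.toFinite _) |>.2 ⟨w, hw1, hwO⟩
    omega
  -- regular on the points
  have hreg : ∀ a ∈ A', ∀ b ∈ A', ∀ d : Fin m, a d = b d → a = b := by
    intro a ha b hb d hab
    ext y : 1
    obtain ⟨e, he, rfl⟩ := hpt d y
    have h1 := congrArg (fun p : Perm (Fin m) => p d) (hcomm a ha e he)
    have h2 := congrArg (fun p : Perm (Fin m) => p d) (hcomm b hb e he)
    simp only [Perm.mul_apply] at h1 h2
    rw [h1, h2, hab]
  -- the complement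
  set D : Set (Fin m) := Δᶜ with hD
  have hDcard : D.ncard + Δ.ncard = m := by
    have := Set.ncard_add_ncard_compl Δ
    rw [Nat.card_fin] at this
    rw [hD]; omega
  have htransD : ∀ s : alternatingGroup (Fin m), ∃ a ∈ A', a • D = s • D := by
    intro s
    obtain ⟨a, ha, has⟩ := htrans s
    refine ⟨a, ha, ?_⟩
    rw [hD, Set.smul_set_compl, Set.smul_set_compl, has]
  -- `|D| = 1`
  have hone : D.ncard = 1 := by
    by_contra hne
    have hpos : 0 < D.ncard := (Set.ncard_pos (Set.toFinite _)).2 ⟨v, hv⟩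
    obtain ⟨w, hw, hwv⟩ : ∃ w ∈ D, w ≠ v := Set.exists_ne_of_one_lt_ncard (by omega) v
    have key : ∀ y : Δ, ∃ a ∈ A', a • D = insert (y : Fin m) (D \ {w}) := by
      intro y
      have hyD : (y : Fin m) ∉ D := fun h1 => h1 y.2
      obtain ⟨t, ht⟩ := exchange hw (show v ∈ D from hv) hwv hyD
      obtain ⟨a, ha, hat⟩ := htransD t
      exact ⟨a, ha, by rw [hat, ht]⟩
    choose f hf hfD using key
    have hmem : ∀ y : Δ, (f y)⁻¹ v ∈ D := by
      intro y
      have h1 : v ∈ f y • D := by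
        rw [hfD]; exact Set.mem_insert_of_mem _ ⟨hv, fun e => hwv (Set.mem_singleton_iff.1 e).symm⟩
      obtain ⟨u, hu1, hu2⟩ := h1
      have : (f y)⁻¹ v = u := by
        rw [← hu2]
        exact Equiv.symm_apply_apply (f y) u
      rw [this]; exact hu1
    have hinj' : Function.Injective (fun y : Δ => (⟨(f y)⁻¹ v, hmem y⟩ : D)) := by
      intro y z hyz
      have h1 : (f y)⁻¹ v = (f z)⁻¹ v := congrArg Subtype.val hyz
      have h2 := hreg _ (inv_mem (hf y)) _ (inv_mem (hf z)) v h1
      have h3 : f y = f z := inv_injective h2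
      have h4 : insert (y : Fin m) (D \ {w}) = insert (z : Fin m) (D \ {w}) := by rw [← hfD, ← hfD, h3]
      have h5 : (y : Fin m) ∈ insert (z : Fin m) (D \ {w}) := by rw [← h4]; exact Set.mem_insert _ _
      rcases h5 with h5 | h5
      · exact Subtype.ext h5
      · exact absurd y.2 h5.1
    have h1 := Nat.card_le_card_of_injective _ hinj'
    rw [Nat.card_coe_set_eq, Nat.card_coe_set_eq] at h1
    omega
  -- the action on the cosets of `L` is the natural action
  obtain ⟨d, hd⟩ := Set.ncard_eq_one.1 hone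
  have hmemL : ∀ g : alternatingGroup (Fin m), g ∈ L ↔ g • d = d := by
    intro g
    rw [hL, ← stabilizer_compl, ← hD, hd, mem_stabilizer_iff, Set.smul_set_singleton, Set.singleton_eq_singleton_iff]
  apply h.notTwo
  rw [is_two_pretransitive_iff]
  intro a b c e hab hce
  induction a using QuotientGroup.induction_on with | H a => ?_
  induction b using QuotientGroup.induction_on with | H b => ?_
  induction c using QuotientGroup.induction_on with | H c => ?_
  induction e using QuotientGroup.induction_on with | H e => ?_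
  have hcos : ∀ g k : alternatingGroup (Fin m), ((g : alternatingGroup (Fin m)) : alternatingGroup (Fin m) ⧸ L) = k ↔
      g • d = k • d := by
    intro g k
    rw [QuotientGroup.eq, hmemL, mul_smul, inv_smul_eq_iff, eq_comm]
  obtain ⟨g, hg1, hg2⟩ := two_trans (m := m) (by omega) (fun e1 => hab ((hcos a b).2 e1))
    (fun e1 => hce ((hcos c e).2 e1))
  refine ⟨g, ?_, ?_⟩
  · show ((g * a : alternatingGroup (Fin m)) : alternatingGroup (Fin m) ⧸ L) = c
    rw [hcos, mul_smul, hg1]
  · show ((g * b : alternatingGroup (Fin m)) : alternatingGroup (Fin m) ⧸ L) = e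
    rw [hcos, mul_smul, hg2]

end Cfsg.Agent.H349.BG.Alt

namespace Cfsg.Agent.H349.BG

universe u

/-- **the row of the alternating groups** -/
theorem row_alt {m : ℕ} (hm : 8 ≤ m) {T : Type u} [Group T] (e : T ≃* alternatingGroup (Fin m)) :
    Cfsg.Agent.H57.BG.Row T :=
  Cfsg.Agent.H57.BG.Row.congr e fun _ _ h => Alt.not_reg hm h

end Cfsg.Agent.H349.BG
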