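import Cfsg.Agent.H57.BG.Scott
import Cfsg.Agent.H349.BG.Cart

/-!
# The cartesian case of S3561 (helper349)

`cartesian` : if `N ∩ G_ω` is the product of its intersections with the products of the `T i` over at least two classes, then
a regular abelian subgroup is the direct product of at least two subgroups of the same order `d ≥ 3`.
-/

set_option autoImplicit false

open Subgroup MulAction Cfsg.Agent.H893 Cfsg.Agent.H893.Fac

namespace Cfsg.Agent.H349.BG

variable {G Ω : Type*} [Group G] [MulAction G Ω] {N : Subgroup G} [N.Normal] {m : ℕ} {T : Fin m → Subgroup G}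
  {e : N ≃* (∀ i, T i)}

/-- the classes of `c` -/
def Cls (c : Fin m → Fin m) : Type := {j : Fin m // c j = j}

instance instFiniteClsCartH349 (c : Fin m → Fin m) : Finite (Cls c) := by unfold Cls; infer_instance

/-- the action on the classes -/
@[instance_reducible]
noncomputable def clsAction (h : Fac N m T e) (c : Fin m → Fin m) (hcc : ∀ i, c (c i) = c i)
    (hinv : ∀ (k : G) i j, c i = c j → c (h.perm k i) = c (h.perm k j)) : MulAction G (Cls c) where
  smul g j := ⟨c (h.perm g j.1), hcc _⟩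
  one_smul j := by
    apply Subtype.ext
    show c (h.perm 1 j.1) = j.1
    rw [map_one]
    exact j.2
  mul_smul a b j := by
    apply Subtype.ext
    show c (h.perm (a * b) j.1) = c (h.perm a (c (h.perm b j.1)))
    rw [map_mul]
    exact hinv a _ _ (hcc _).symm

/-- the equivalence relation of the class `j`: the orbits of the elements of `N` with trivial coordinates in the class -/
def Rel (e : N ≃* (∀ i, T i)) (Ω : Type*) [MulAction G Ω] (c : Fin m → Fin m) (j : Cls c) (x y : Ω) : Prop :=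
  ∃ n : N, (∀ i, c i = j.1 → e n i = 1) ∧ (n : G) • x = y

omit [N.Normal] in
theorem rel_eqv (c : Fin m → Fin m) (j : Cls c) : Equivalence (Rel e Ω c j) where
  refl x := ⟨1, fun i _ => by rw [map_one]; rfl, by simp⟩
  symm := by
    rintro x y ⟨n, hn, rfl⟩
    refine ⟨n⁻¹, fun i hi => ?_, by simp⟩
    rw [map_inv, Pi.inv_apply, hn i hi, inv_one]
  trans := by
    rintro x y z ⟨n, hn, rfl⟩ ⟨n', hn', rfl⟩
    refine ⟨n' * n, fun i hi => ?_, by rw [Subgroup.coe_mul, mul_smul]⟩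
    rw [map_mul, Pi.mul_apply, hn i hi, hn' i hi, mul_one]

theorem rel_act (h : Fac N m T e) (c : Fin m → Fin m) (hcc : ∀ i, c (c i) = c i)
    (hinv : ∀ (k : G) i j, c i = c j → c (h.perm k i) = c (h.perm k j)) (g : G) (j : Cls c) (x y : Ω)
    (hxy : Rel e Ω c j x y) : Rel e Ω c (((clsAction h c hcc hinv).smul g j) : Cls c) (g • x) (g • y) := by
  obtain ⟨n, hn, rfl⟩ := hxy
  refine ⟨cj N g n, fun i hi => ?_, ?_⟩
  · have h1 : c i = c (h.perm g j.1) := hi
    have h2 := hinv g⁻¹ _ _ h1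
    have h3 : h.perm g⁻¹ (h.perm g j.1) = j.1 := by
      rw [← Equiv.Perm.mul_apply, ← map_mul, inv_mul_cancel, map_one]; rfl
    rw [h3, j.2] at h2
    have h4 : T i = (T (h.perm g⁻¹ i)).map (MulAut.conj g).toMonoidHom := by
      rw [← h.perm_spec, ← Equiv.Perm.mul_apply, ← map_mul, mul_inv_cancel, map_one]; rfl
    rw [h.cj_eq_one g _ i h4]
    exact hn _ h2
  · show (g * (n : G) * g⁻¹) • g • x = g • (n : G) • x
    rw [← mul_smul, ← mul_smul, inv_mul_cancel_right]

/-- **The cartesian case.** -/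
theorem cartesian [Finite G] [FaithfulSMul G Ω] [Finite Ω] (h : Fac N m T e) {ω : Ω} (hN : ∀ x y : Ω, ∃ n ∈ N, n • x = y)
    (c : Fin m → Fin m) (hcc : ∀ i, c (c i) = c i)
    (hinv : ∀ k ∈ stabilizer G ω, ∀ i j, c i = c j → c (h.perm k i) = c (h.perm k j))
    (hmem : ∀ n : N, (n : G) ∈ stabilizer G ω ↔
      ∀ j, ((e.symm (fun i => if c i = c j then e n i else 1) : N) : G) ∈ stabilizer G ω)
    (htwo : ∃ i j, c i ≠ c j) (hpp : ¬ IsPrimePow (Nat.card Ω)) (h1 : 1 < Nat.card Ω)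
    (R : Subgroup G) (hR : ∀ x ∈ R, ∀ y ∈ R, x * y = y * x) (hRt : ∀ x y : Ω, ∃ r ∈ R, r • x = y)
    (hRf : ∀ x : Ω, ∀ r ∈ R, r • x = x → r = 1) :
    ∃ (d r : ℕ) (f : Fin r → Subgroup R), 3 ≤ d ∧ 2 ≤ r ∧ iSupIndep f ∧ (⨆ i, f i) = ⊤ ∧ ∀ i, Nat.card ↥(f i) = d := by
  classical
  have hinv' : ∀ (k : G) i j, c i = c j → c (h.perm k i) = c (h.perm k j) := by
    intro k i j hij
    obtain ⟨n, hn, hnk⟩ := hN ω (k • ω)
    have h2 : n⁻¹ * k ∈ stabilizer G ω := by
      rw [mem_stabilizer_iff, mul_smul, ← hnk, inv_smul_smul]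
    have h3 : h.perm n = 1 := h.le_ker_perm hn
    have h4 : h.perm (n⁻¹ * k) = h.perm k := by rw [map_mul, map_inv, h3, inv_one, one_mul]
    have := hinv _ h2 i j hij
    rwa [h4] at this
  let _ : MulAction G (Cls c) := clsAction h c hcc hinv'
  have hne : Nonempty Ω := ⟨ω⟩
  have hrep : ∀ x : Ω, ∃ n : N, (n : G) • ω = x := fun x => by
    obtain ⟨n, hn, hx⟩ := hN ω x
    exact ⟨⟨n, hn⟩, hx⟩
  -- separation
  have hsep : ∀ x y : Ω, (∀ j, Rel e Ω c j x y) → x = y := by
    intro x y hxy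
    obtain ⟨a, rfl⟩ := hrep x
    obtain ⟨b, rfl⟩ := hrep y
    suffices hu : ((a⁻¹ * b : N) : G) ∈ stabilizer G ω by
      rw [mem_stabilizer_iff, Subgroup.coe_mul, Subgroup.coe_inv, mul_smul, inv_smul_eq_iff] at hu
      exact hu.symm
    rw [hmem]
    intro j
    obtain ⟨n, hn, hnx⟩ := hxy ⟨c j, hcc j⟩
    have h2 : ((a⁻¹ * n⁻¹ * b : N) : G) ∈ stabilizer G ω := by
      rw [mem_stabilizer_iff, Subgroup.coe_mul, Subgroup.coe_mul, mul_smul, ← hnx, Subgroup.coe_inv, Subgroup.coe_inv,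
        mul_smul, inv_smul_smul, inv_smul_smul]
    have h3 := (hmem _).1 h2 j
    have h4 : (fun i => if c i = c j then e (a⁻¹ * b) i else 1) =
        (fun i => if c i = c j then e (a⁻¹ * n⁻¹ * b) i else 1) := by
      funext i
      split_ifs with hi
      · have h5 : e n i = 1 := hn i hi
        rw [map_mul, map_mul, map_mul, Pi.mul_apply, Pi.mul_apply, Pi.mul_apply, map_inv e n, Pi.inv_apply _ i, h5,
          inv_one, mul_one]
      · rfl
    rwa [h4]
  have hind : ∀ z : Cls c → Ω, ∃ x, ∀ j, Rel e Ω c j x (z j) := by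
    intro z
    choose a ha using fun j => hrep (z j)
    refine ⟨((e.symm (fun i => e (a ⟨c i, hcc i⟩) i) : N) : G) • ω, fun j => ?_⟩
    refine ⟨a j * (e.symm (fun i => e (a ⟨c i, hcc i⟩) i))⁻¹, fun i hi => ?_, ?_⟩
    · rw [map_mul, map_inv, MulEquiv.apply_symm_apply, Pi.mul_apply, Pi.inv_apply]
      have : (⟨c i, hcc i⟩ : Cls c) = j := Subtype.ext hi
      rw [this, mul_inv_cancel]
    · rw [Subgroup.coe_mul, Subgroup.coe_inv, mul_smul, inv_smul_smul, ha]
  -- all the quotients have the same size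
  obtain ⟨i₀, i₁, h01⟩ := htwo
  let j₀ : Cls c := ⟨c i₀, hcc i₀⟩
  have htr : ∀ j : Cls c, ∃ g : G, g • j₀ = j := by
    intro j
    obtain ⟨g, hg⟩ := h.trans j₀.1 j.1
    refine ⟨g, Subtype.ext ?_⟩
    show c (h.perm g j₀.1) = j.1
    have h2 : h.perm g j₀.1 = j.1 := h.inj (by rw [h.perm_spec, hg])
    rw [h2]; exact j.2
  have hact : ∀ (g : G) (j : Cls c) (x y : Ω), Rel e Ω c j x y → Rel e Ω c (g • j) (g • x) (g • y) :=
    fun g j x y hxy => rel_act h c hcc hinv' g j x y hxy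
  obtain ⟨d, hd⟩ : ∃ d, d = Nat.card (Quotient (⟨Rel e Ω c j₀, rel_eqv c j₀⟩ : Setoid Ω)) := ⟨_, rfl⟩
  have hcard : ∀ j, Nat.card (Quotient (⟨Rel e Ω c j, rel_eqv c j⟩ : Setoid Ω)) = d := by
    intro j
    rw [hd]
    obtain ⟨g, rfl⟩ := htr j
    symm
    refine Nat.card_congr (Quotient.congr (MulAction.toPerm g) fun x y => ?_)
    constructor
    · exact fun hxy => hact g j₀ x y hxy
    · intro hxy
      have h2 := hact g⁻¹ _ _ _ hxy
      simp only [MulAction.toPerm_apply, inv_smul_smul] at h2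
      exact h2
  have hprod : Nat.card Ω = d ^ Nat.card (Cls c) := by
    have := Fintype.ofFinite (Cls c)
    have h2 : Nat.card (∀ j : Cls c, Quotient (⟨Rel e Ω c j, rel_eqv c j⟩ : Setoid Ω)) = d ^ Nat.card (Cls c) := by
      rw [Nat.card_pi]
      simp only [hcard, Finset.prod_const, Finset.card_univ, Nat.card_eq_fintype_card]
    rw [← h2]
    refine Nat.card_congr (Equiv.ofBijective (fun x j => Quotient.mk _ x) ⟨fun x y hxy => ?_, fun p => ?_⟩)
    · exact hsep x y fun j => Quotient.exact (congrFun hxy j)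
    · obtain ⟨x, hx⟩ := hind fun j => (p j).out
      refine ⟨x, funext fun j => ?_⟩
      show Quotient.mk _ x = p j
      rw [← Quotient.out_eq (p j)]
      exact Quotient.sound (hx j)
  have hJ : 2 ≤ Nat.card (Cls c) := by
    have : Nontrivial (Cls c) := ⟨⟨⟨c i₀, hcc i₀⟩, ⟨c i₁, hcc i₁⟩, fun h2 => h01 (congrArg Subtype.val h2)⟩⟩
    exact Finite.one_lt_card
  have hd3 : 3 ≤ d := by
    by_contra hcon
    have h2 : d = 0 ∨ d = 1 ∨ d = 2 := by omega
    rcases h2 with h2 | h2 | h2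
    · rw [hprod, h2, zero_pow (by omega)] at h1; omega
    · rw [hprod, h2, one_pow] at h1; omega
    · apply hpp
      rw [hprod, h2]
      exact Nat.prime_two.isPrimePow.pow (by omega)
  let _ : CommGroup R := { (inferInstance : Group R) with mul_comm := fun a b => Subtype.ext (hR a a.2 b b.2) }
  have hC : Cart R Ω (Cls c) (Rel e Ω c) d := by
    refine ⟨rel_eqv c, fun r j x y hxy => hact r j x y hxy, hsep, hind, hcard, fun x y => ?_, fun x r hr => ?_⟩
    · obtain ⟨r, hr, hxy⟩ := hRt x y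
      exact ⟨⟨r, hr⟩, hxy⟩
    · exact Subtype.ext (hRf x r r.2 hr)
  obtain ⟨r, f, hf1, hf2, hf3, hf4⟩ := cart hC hd3 hJ
  exact ⟨d, r, f, hd3, hf1, hf2, hf3, hf4⟩

end Cfsg.Agent.H349.BG
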