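import Cfsg.Agent.H57.BG.Dead
import Cfsg.Agent.H264.FKS.Res
import Cfsg.Agent.S2065
import Cfsg.Agent.S2601
import Cfsg.Agent.SmallSimple.SylowCount

/-!
# S3561: the two cross characteristic exceptions (helper349)

* `dead_j1` : `J₁ < PSL₃(11)` is dead;
* `dead_l213` : `PSL₂(13) < PΩ₈⁺(4)` is dead.
-/

set_option autoImplicit false

namespace Cfsg.Agent.H349.BG

open Subgroup Cfsg Cfsg.Agent.OrdDiv Cfsg.Agent.H436 Cfsg.Agent.H264.FKS Cfsg.Agent.H915.GN Cfsg.Agent.H57.BG
open Cfsg.Agent.H902 Cfsg.Agent.H902.Names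

variable {T : Type} [Group T] [Finite T] [IsSimpleGroup T] {M : Subgroup T}

theorem dd_psl {n q : ℕ} {X : Art.Sh} {p f : ℕ} (h : IsLie (.psl n q) X p f) : Art.dd X (p ^ f) = Nat.gcd n (q - 1) := by
  cases h; rfl

theorem dd_oplus {m q : ℕ} {X : Art.Sh} {p f : ℕ} (h : IsLie (.oplus m q) X p f) :
    Art.dd X (p ^ f) = Nat.gcd 4 (q ^ m - 1) := by
  cases h; rfl

/-- the order of the outer automorphism group, roughly -/
theorem out_le {S : Type} [Group S] [Finite S] [IsSimpleGroup S] (hna : ¬ ∀ x y : S, x * y = y * x) {g : Grp} {p : ℕ}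
    (hp : p.Prime) (hn : IsNamed g S) (hch : HasChar p g) {d e : ℕ}
    (hd : ∀ X f, IsLie g X p f → Art.dd X (p ^ f) = d) (hd0 : d ≠ 0) (he : fld g = p ^ e) :
    Nat.card (Cfsg.Out S) ≤ 24 * d * e := by
  obtain ⟨X, f, h1, h2, h3⟩ := exists_lie hp hn hch
  obtain ⟨c, h4, h5, -⟩ := Cfsg.Agent.H364.OutLie.card_out hna h1 hn.real h2
  rw [he] at h3
  obtain rfl := Nat.pow_right_injective hp.two_le h3
  rw [hd X e h1] at h5
  rw [h4]
  exact Nat.mul_le_mul_right _ (Nat.le_of_dvd (by positivity) h5)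

/-- **`PSL₂(13) < PΩ₈⁺(4)`** -/
theorem dead_l213 (hnaT : ¬ ∀ x y : T, x * y = y * x) (hT : IsNamed (.oplus 4 4) T) (S : Subgroup M) [S.Normal]
    [IsSimpleGroup S] (hna : ¬ IsMulCommutative S) (hC : centralizer (S : Set M) = ⊥) (hS : IsNamed (.psl 2 13) S) :
    Dead T M := by
  have hna' : ¬ ∀ x y : S, x * y = y * x := fun h => hna ⟨⟨h⟩⟩
  have h1 : Nat.card (Cfsg.Out T) ≤ 24 * 1 * 2 := by
    refine out_le hnaT Nat.prime_two hT ⟨2, by norm_num⟩ (fun X f h => ?_) one_ne_zero (by rfl)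
    rw [dd_oplus h]; norm_num
  have h2 : Nat.card (Cfsg.Out S) ≤ 24 * 2 * 1 := by
    refine out_le hna' (show (13 : ℕ).Prime by norm_num) hS ⟨1, by norm_num⟩ (fun X f h => ?_) two_ne_zero (by rfl)
    rw [dd_psl h]; norm_num
  have h3 : Nat.card T = 67010895544320000 := by
    rw [hT.ord]; decide +kernel
  have h4 : Nat.card S = 1092 := by
    rw [hS.ord]; decide +kernel
  have h5 := dvd_aut S hC
  rw [← H934.OutB.card_out_mul S hna, h4] at h5
  have hSpos : 0 < Nat.card (Cfsg.Out S) * 1092 := by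
    rw [← h4, H934.OutB.card_out_mul S hna]
    exact Nat.card_pos
  have h6 : Nat.card M ≤ 48 * 1092 :=
    (Nat.le_of_dvd hSpos h5).trans (Nat.mul_le_mul_right _ h2)
  refine dead_of_index (center_eq_bot hnaT) ?_
  have h7 := M.card_mul_index
  rw [h3] at h7
  have h8 : 1278443520000 ≤ M.index := by
    by_contra hcon
    have h9 : Nat.card M * M.index ≤ (48 * 1092) * 1278443519999 := Nat.mul_le_mul h6 (by omega)
    omega
  rw [h3]
  have h10 : (H57.BG.Inn T).index ≤ 48 := h1
  calc 67010895544320000 * (H57.BG.Inn T).index ≤ 67010895544320000 * 48 := Nat.mul_le_mul_left _ h10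
    _ < 1278443520000 ^ 2 := by norm_num
    _ ≤ M.index ^ 2 := Nat.pow_le_pow_left h8 2

/-- a simple group of order `175560` in a simple group of order `|PSL₃(11)|` is dead -/
theorem dead_of_card_j1 (hnaT : ¬ ∀ x y : T, x * y = y * x) (hT : Nat.card T = 212427600) (hout : (H57.BG.Inn T).index ≤ 2)
    (hM : IsSimpleGroup M) (hcM : Nat.card M = 175560) : Dead T M := by
  intro A L hr hLM
  have hc := center_eq_bot hnaT
  have hidx : M.index = 1210 := by
    have h1 := M.card_mul_index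
    rw [hT, hcM] at h1
    omega
  by_cases hL : L.subgroupOf M = ⊤
  · have h1 : L = M := le_antisymm hLM (subgroupOf_eq_top.1 hL)
    have h2 := hr.sq_dvd Nat.prime_two (by rw [h1, hidx]; norm_num)
    rw [h1, hidx] at h2
    revert h2; norm_num
  · have h1 := Cfsg.Agent.SmallSimple.SylowCount.card_dvd_factorial_index (L.subgroupOf M) hL
    have h2 : 19 ≤ (L.subgroupOf M).index := by
      have h3 : 19 ∣ ((L.subgroupOf M).index).factorial := by
        refine dvd_trans ?_ h1
        rw [hcM]; norm_num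
      exact (Nat.Prime.dvd_factorial (by norm_num)).1 h3
    have h3 : L.index = (L.subgroupOf M).index * M.index := by
      rw [← Subgroup.relIndex_mul_index hLM]
      rfl
    have h4 := hr.index_sq_le hc
    rw [hT] at h4
    have h5 : 22990 ≤ L.index := by
      rw [h3, hidx]
      omega
    have h6 : 22990 ^ 2 ≤ L.index ^ 2 := Nat.pow_le_pow_left h5 2
    have h7 : 212427600 * (H57.BG.Inn T).index ≤ 212427600 * 2 := Nat.mul_le_mul_left _ hout
    omega

theorem out_psl_three_eleven {F : Type} [Field F] [Fintype F] (hF : Fintype.card F = 11) :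
    Nat.card (Cfsg.Out (Matrix.ProjectiveSpecialLinearGroup (Fin 3) F)) = 2 := by
  have : Fact (11 : ℕ).Prime := ⟨by norm_num⟩
  obtain ⟨φ, h1, -, h2⟩ := Cfsg.Agent.S2601.result (p := 11) (f := 1) (n := 3) le_rfl (by rw [hF]; norm_num) le_rfl
  have h3 := Subgroup.card_mul_index φ.ker
  rw [h2, Subgroup.index_ker, MonoidHom.range_eq_top.2 h1, Subgroup.card_top] at h3
  rw [← h3]
  have h4 : Nat.card (Multiplicative (ZMod 1 × ZMod 2)) = Nat.card (ZMod 1 × ZMod 2) :=
    Nat.card_congr Multiplicative.toAdd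
  rw [h4, Nat.card_prod, Nat.card_zmod, Nat.card_zmod]
  norm_num

/-- **`J₁ < PSL₃(11)`** -/
theorem dead_j1 (hnaT : ¬ ∀ x y : T, x * y = y * x) (hT : IsNamed (.psl 3 11) T) (S : Subgroup M) [S.Normal]
    [IsSimpleGroup S] (hna : ¬ IsMulCommutative S) (hC : centralizer (S : Set M) = ⊥) (hS : IsNamed .j1 S) :
    Dead T M := by
  have h1 : Nat.card (Cfsg.Out S) = 1 := by
    obtain ⟨e⟩ : Spor.IsoJ1 S := hS.real
    rw [H934.OutB.card_out_congr e]
    exact Cfsg.Agent.S2065.result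
  have h2 : Nat.card (Cfsg.Out T) = 2 := by
    obtain ⟨F, _, _, hF, ⟨e⟩⟩ := hT.real
    rw [H934.OutB.card_out_congr e]
    exact out_psl_three_eleven hF
  have h3 : Nat.card T = 212427600 := by
    rw [hT.ord]; decide +kernel
  have h4 : Nat.card S = 175560 := by
    rw [hS.ord]; decide +kernel
  have h5 := dvd_aut S hC
  rw [← H934.OutB.card_out_mul S hna, h1, one_mul] at h5
  have h6 : S = ⊤ := by
    apply Subgroup.eq_top_of_card_eq
    exact Nat.dvd_antisymm (Subgroup.card_subgroup_dvd_card S) h5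
  have h7 : Nat.card M = 175560 := by
    rw [← h4, h6, Subgroup.card_top]
  have h8 : IsSimpleGroup M := by
    have e : S ≃* M := (MulEquiv.subgroupCongr h6).trans Subgroup.topEquiv
    exact e.symm.isSimpleGroup
  exact dead_of_card_j1 hnaT h3 (show Nat.card (Cfsg.Out T) ≤ 2 from h2.le) h8 h7

end Cfsg.Agent.H349.BG
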